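import Groth.Agent.AGF27.Unip.Scheme
import Groth.Agent.AGF27.Unip.GeomFibre
import Groth.Agent.AGFHopf.BC
import Groth.Agent.ComodLib.Trig

/-!
# Unipotent groups have no subtorus
-/

set_option linter.style.haveILetI false
set_option maxHeartbeats 300000
set_option backward.isDefEq.respectTransparency false

universe u

open CategoryTheory CategoryTheory.Limits MonoidalCategory CartesianMonoidalCategory MonObj AlgebraicGeometry
open TensorProduct
open Groth.Agent.GrpSchLib Groth.Agent.GrpSchLib.Kunneth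
open scoped Groth.Agent.AGF27

namespace Groth.Agent.AGF27.Unip

/-- A bialgebra map from a unipotent bialgebra to a group algebra is trivial. -/
theorem eq_counit_of_isUnipotent {L : Type u} [Field L] {A : Type u} [CommRing A] [Bialgebra L A]
    (hU : HopfRep.IsUnipotent L A) {r : ℕ} (ψ : A →ₐc[L] MonoidAlgebra L (Multiplicative (Fin r → ℤ))) (a : A) :
    ψ a = algebraMap L _ (Coalgebra.counit (R := L) a) := by
  classical
  obtain ⟨W, hWf, haW, hWs⟩ := ComodLib.exists_finite_subcomod_mem (k := L) (C := A) (V := A) a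
  letI cW : HopfRep.Comod L A W := ComodSub.Comod.restr (HopfRep.Comod.regular L A) W hWs
  obtain ⟨m, F, -, hF0, hFm, hFs, hstep⟩ := ComodLib.isUnipotent_iff_filtration.mp hU W hWf
  let cM : HopfRep.Comod L (MonoidAlgebra L (Multiplicative (Fin r → ℤ))) W := ComodLib.pushComod (ψ : A →ₗc[L] (MonoidAlgebra L (Multiplicative (Fin r → ℤ)))) cW
  let ρ : W →ₗ[L] W ⊗[L] (MonoidAlgebra L (Multiplicative (Fin r → ℤ))) := (ψ : A →ₗ[L] (MonoidAlgebra L (Multiplicative (Fin r → ℤ)))).lTensor W ∘ₗ cW.coact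
  -- no primitive elements
  have hprim : ∀ w : W ⊗[L] (MonoidAlgebra L (Multiplicative (Fin r → ℤ))), (Coalgebra.comul (R := L)).lTensor W w =
      TensorProduct.assoc L W (MonoidAlgebra L (Multiplicative (Fin r → ℤ))) (MonoidAlgebra L (Multiplicative (Fin r → ℤ))) (w ⊗ₜ[L] (1 : (MonoidAlgebra L (Multiplicative (Fin r → ℤ))))) + (TensorProduct.mk L (MonoidAlgebra L (Multiplicative (Fin r → ℤ))) (MonoidAlgebra L (Multiplicative (Fin r → ℤ))) 1).lTensor W w → w = 0 := by
    intro w hw
    let b := MonoidAlgebra.basis (Multiplicative (Fin r → ℤ)) L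
    let e := TensorProduct.equivFinsuppOfBasisRight (M := W) b
    refine e.injective (Finsupp.ext fun n => ?_)
    have hφ : ∀ n, ∀ z : W ⊗[L] (MonoidAlgebra L (Multiplicative (Fin r → ℤ))), e z n = TensorProduct.rid L W ((b.coord n).lTensor W z) := fun n z => by
      induction z using TensorProduct.induction_on with
      | zero => simp
      | add p q hp hq => simp only [map_add, Finsupp.add_apply, hp, hq]
      | tmul x y => simp [e, TensorProduct.equivFinsuppOfBasisRight_apply_tmul_apply]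
    let c₂ : (MonoidAlgebra L (Multiplicative (Fin r → ℤ))) ⊗[L] (MonoidAlgebra L (Multiplicative (Fin r → ℤ))) →ₗ[L] L := LinearMap.mul' L L ∘ₗ TensorProduct.map (b.coord n) (b.coord n)
    have hcomul : c₂ ∘ₗ Coalgebra.comul = b.coord n := by
      refine b.ext fun l => ?_
      rw [LinearMap.comp_apply, show b l = MonoidAlgebra.single l (1 : L) from MonoidAlgebra.basis_apply ..,
        show Coalgebra.comul (R := L) (MonoidAlgebra.single l (1 : L) : (MonoidAlgebra L (Multiplicative (Fin r → ℤ)))) =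
          MonoidAlgebra.single l (1 : L) ⊗ₜ[L] MonoidAlgebra.single l (1 : L) from by
            simp [MonoidAlgebra.comul_single] <;> rfl]
      simp only [c₂, LinearMap.comp_apply, TensorProduct.map_tmul, LinearMap.mul'_apply, b, Module.Basis.coord_apply,
        MonoidAlgebra.basis_apply]
      rw [← MonoidAlgebra.basis_apply L l, Module.Basis.repr_self, Finsupp.single_apply]
      split_ifs <;> simp
    have key := congrArg (fun z => TensorProduct.rid L W (c₂.lTensor W z)) hw
    simp only [map_add] at key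
    rw [← LinearMap.lTensor_comp_apply, hcomul, ← hφ] at key
    have h1 : ∀ z : W ⊗[L] (MonoidAlgebra L (Multiplicative (Fin r → ℤ))), TensorProduct.rid L W (c₂.lTensor W (TensorProduct.assoc L W (MonoidAlgebra L (Multiplicative (Fin r → ℤ))) (MonoidAlgebra L (Multiplicative (Fin r → ℤ))) (z ⊗ₜ[L] (1 : (MonoidAlgebra L (Multiplicative (Fin r → ℤ))))))) =
        b.coord n 1 • e z n := fun z => by
      induction z using TensorProduct.induction_on with
      | zero => simp
      | add p q hp hq => simp only [TensorProduct.add_tmul, map_add, Finsupp.add_apply, smul_add, hp, hq]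
      | tmul x y => rw [hφ]; simp [c₂, smul_smul, mul_comm] <;> rfl
    have h2 : ∀ z : W ⊗[L] (MonoidAlgebra L (Multiplicative (Fin r → ℤ))), TensorProduct.rid L W (c₂.lTensor W ((TensorProduct.mk L (MonoidAlgebra L (Multiplicative (Fin r → ℤ))) (MonoidAlgebra L (Multiplicative (Fin r → ℤ))) 1).lTensor W z)) =
        b.coord n 1 • e z n := fun z => by
      induction z using TensorProduct.induction_on with
      | zero => simp
      | add p q hp hq => simp only [map_add, Finsupp.add_apply, smul_add, hp, hq]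
      | tmul x y => rw [hφ]; simp [c₂, smul_smul, mul_comm] <;> rfl
    rw [h1, h2] at key
    have hn : b.coord n 1 = if n = 1 then 1 else 0 := by
      rw [Module.Basis.coord_apply, MonoidAlgebra.one_def, ← MonoidAlgebra.basis_apply L (1 : Multiplicative (Fin r → ℤ)), Module.Basis.repr_self, Finsupp.single_apply]; simp only [eq_comm]
    rw [hn] at key
    rw [map_zero, Finsupp.zero_apply]
    split_ifs at key
    · simpa using key
    · simpa using key
  have htriv : ∀ i, ∀ v ∈ F i, ρ v = v ⊗ₜ[L] (1 : (MonoidAlgebra L (Multiplicative (Fin r → ℤ)))) := by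
    intro i
    induction i with
    | zero => intro v hv; rw [hF0, Submodule.mem_bot] at hv; simp [hv]
    | succ i ih =>
      intro v hv
      obtain ⟨z, hz⟩ := hstep i v hv
      obtain ⟨w, hw⟩ : ∃ w : F i ⊗[L] (MonoidAlgebra L (Multiplicative (Fin r → ℤ))), ρ v = v ⊗ₜ[L] (1 : (MonoidAlgebra L (Multiplicative (Fin r → ℤ)))) + (F i).subtype.rTensor (MonoidAlgebra L (Multiplicative (Fin r → ℤ))) w := by
        refine ⟨(ψ : A →ₗ[L] (MonoidAlgebra L (Multiplicative (Fin r → ℤ)))).lTensor (F i) z, ?_⟩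
        show (ψ : A →ₗ[L] (MonoidAlgebra L (Multiplicative (Fin r → ℤ)))).lTensor W (cW.coact v) = _
        rw [← LinearMap.comp_apply ((F i).subtype.rTensor (MonoidAlgebra L (Multiplicative (Fin r → ℤ)))), LinearMap.rTensor_comp_lTensor, ← LinearMap.lTensor_comp_rTensor,
          LinearMap.comp_apply, hz, map_sub, LinearMap.lTensor_tmul, show (ψ : A →ₗ[L] (MonoidAlgebra L (Multiplicative (Fin r → ℤ)))) 1 = 1 from map_one ψ,
          add_sub_cancel]
      have hw0 : (F i).subtype.rTensor (MonoidAlgebra L (Multiplicative (Fin r → ℤ))) w = 0 := by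
        refine hprim _ ?_
        have hco := LinearMap.congr_fun cM.coassoc v
        simp only [LinearMap.comp_apply, LinearEquiv.coe_coe] at hco
        change TensorProduct.assoc L W (MonoidAlgebra L (Multiplicative (Fin r → ℤ))) (MonoidAlgebra L (Multiplicative (Fin r → ℤ))) (ρ.rTensor (MonoidAlgebra L (Multiplicative (Fin r → ℤ))) (ρ v)) = Coalgebra.comul.lTensor W (ρ v) at hco
        have hu : ρ.rTensor (MonoidAlgebra L (Multiplicative (Fin r → ℤ))) ((F i).subtype.rTensor (MonoidAlgebra L (Multiplicative (Fin r → ℤ))) w) =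
            ((TensorProduct.mk L W (MonoidAlgebra L (Multiplicative (Fin r → ℤ)))).flip 1).rTensor (MonoidAlgebra L (Multiplicative (Fin r → ℤ))) ((F i).subtype.rTensor (MonoidAlgebra L (Multiplicative (Fin r → ℤ))) w) := by
          rw [← LinearMap.rTensor_comp_apply, ← LinearMap.rTensor_comp_apply,
            show ρ ∘ₗ (F i).subtype = (TensorProduct.mk L W (MonoidAlgebra L (Multiplicative (Fin r → ℤ)))).flip 1 ∘ₗ (F i).subtype from
              LinearMap.ext fun x => ih _ x.2]
        have hassoc : ∀ y : W ⊗[L] (MonoidAlgebra L (Multiplicative (Fin r → ℤ))), TensorProduct.assoc L W (MonoidAlgebra L (Multiplicative (Fin r → ℤ))) (MonoidAlgebra L (Multiplicative (Fin r → ℤ))) (((TensorProduct.mk L W (MonoidAlgebra L (Multiplicative (Fin r → ℤ)))).flip 1).rTensor (MonoidAlgebra L (Multiplicative (Fin r → ℤ))) y) =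
            (TensorProduct.mk L (MonoidAlgebra L (Multiplicative (Fin r → ℤ))) (MonoidAlgebra L (Multiplicative (Fin r → ℤ))) 1).lTensor W y := fun y => by
          induction y using TensorProduct.induction_on with
          | zero => simp
          | add p q hp hq => simp only [map_add, hp, hq]
          | tmul x y => simp
        rw [hw, map_add, map_add, LinearMap.rTensor_tmul, hw, TensorProduct.add_tmul, map_add, hu, hassoc, map_add,
          LinearMap.lTensor_tmul, Bialgebra.comul_one, Algebra.TensorProduct.one_def, TensorProduct.assoc_tmul] at hco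
        rw [add_assoc] at hco
        letI : AddCommGroup (W ⊗[L] (MonoidAlgebra L (Multiplicative (Fin r → ℤ)) ⊗[L]
          MonoidAlgebra L (Multiplicative (Fin r → ℤ)))) := TensorProduct.addCommGroup
        exact (add_left_cancel hco).symm
      rw [hw, hw0, add_zero]
  have hρ : ρ ⟨a, haW⟩ = (⟨a, haW⟩ : W) ⊗ₜ[L] (1 : (MonoidAlgebra L (Multiplicative (Fin r → ℤ)))) := htriv m _ (hFm ▸ Submodule.mem_top)
  have h := congrArg (fun z => TensorProduct.lid L (MonoidAlgebra L (Multiplicative (Fin r → ℤ))) ((Coalgebra.counit (R := L)).rTensor (MonoidAlgebra L (Multiplicative (Fin r → ℤ)))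
    (W.subtype.rTensor (MonoidAlgebra L (Multiplicative (Fin r → ℤ))) z))) hρ
  simp only [LinearMap.rTensor_tmul, TensorProduct.lid_tmul, Submodule.subtype_apply] at h
  rw [Algebra.algebraMap_eq_smul_one, ← h]
  show ψ a = TensorProduct.lid L (MonoidAlgebra L (Multiplicative (Fin r → ℤ))) ((Coalgebra.counit (R := L)).rTensor (MonoidAlgebra L (Multiplicative (Fin r → ℤ)))
    (W.subtype.rTensor (MonoidAlgebra L (Multiplicative (Fin r → ℤ))) ((ψ : A →ₗ[L] (MonoidAlgebra L (Multiplicative (Fin r → ℤ)))).lTensor W (cW.coact ⟨a, haW⟩))))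
  rw [← LinearMap.comp_apply (W.subtype.rTensor (MonoidAlgebra L (Multiplicative (Fin r → ℤ)))), LinearMap.rTensor_comp_lTensor, ← LinearMap.lTensor_comp_rTensor,
    LinearMap.comp_apply, ComodSub.restr_coact_coe (HopfRep.Comod.regular L A) W hWs ⟨a, haW⟩,
    ← LinearMap.comp_apply (LinearMap.rTensor (MonoidAlgebra L (Multiplicative (Fin r → ℤ))) Coalgebra.counit), LinearMap.rTensor_comp_lTensor,
    ← LinearMap.lTensor_comp_rTensor, LinearMap.comp_apply]
  show _ = TensorProduct.lid L (MonoidAlgebra L (Multiplicative (Fin r → ℤ))) ((ψ : A →ₗ[L] (MonoidAlgebra L (Multiplicative (Fin r → ℤ)))).lTensor L ((Coalgebra.counit (R := L)).rTensor A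
    (Coalgebra.comul (R := L) a)))
  rw [Coalgebra.rTensor_counit_comul, LinearMap.lTensor_tmul, TensorProduct.lid_tmul, one_smul]
  rfl

variable {k : Type u} [Field k] {U : Over (Spec (CommRingCat.of k))} [GrpObj U] [IsAffine U.left]
  [LocallyOfFiniteType U.hom]

/-- A unipotent affine group has no subtorus. -/
theorem hasNoSubtorus_of_isUnipotent (hU : HopfRep.IsUnipotent k (Fn U)) : Red.HasNoSubtorus k U := by
  intro T _ j _ _ hT
  obtain ⟨S', f, -, hsurj, -, hloc⟩ := hT
  obtain ⟨s', -⟩ := hsurj.surj (IsLocalRing.closedPoint k)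
  obtain ⟨V, hsV, r, ⟨e⟩⟩ := hloc s'
  let L : Type u := (V : Scheme.{u}).residueField ⟨s', hsV⟩
  let g₀ : Spec (CommRingCat.of L) ⟶ (V : Scheme.{u}) := (V : Scheme.{u}).fromSpecResidueField ⟨s', hsV⟩
  let g : Spec (CommRingCat.of L) ⟶ Spec (CommRingCat.of k) := g₀ ≫ V.ι ≫ f
  letI : Algebra k L := (Spec.preimage g).hom.toAlgebra
  have hg : g = Spec.map (CommRingCat.ofHom (algebraMap k L)) := (Spec.map_preimage g).symm
  obtain ⟨e₁⟩ := Torus.bc_bc g₀ (V.ι ≫ f) T
  obtain ⟨e₂⟩ := Torus.bc_iso g₀ e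
  obtain ⟨e₃⟩ := Torus.bc_DS g₀ (Fin r → ℤ)
  obtain ⟨e₄⟩ := AffineHopf.nonempty_DS_iso L (Fin r → ℤ)
  let eT : Grp.mk (Red.bc g T) ≅ Grp.mk (AffineHopf.sp L (MonoidAlgebra L (Multiplicative (Fin r → ℤ)))) :=
    e₁.symm ≪≫ e₂ ≪≫ e₃ ≪≫ e₄.symm
  obtain ⟨A, _, _, ⟨eA⟩⟩ := AffineHopf.exists_hopf U
  obtain ⟨φ, -⟩ := exists_bialgEquiv_fn eA
  haveI : Algebra.FiniteType k A := .of_surjective ((φ : Fn U →ₐc[k] A) : Fn U →ₐ[k] A) φ.surjective
  have hA : HopfRep.IsUnipotent L (L ⊗[k] A) := AGFHopf.isUnipotent_baseChange (isUnipotent_of_bialgEquiv φ hU)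
  obtain ⟨e₅⟩ := Torus.bc_iso g eA
  obtain ⟨e₆⟩ := Torus.bc_congr hg (AffineHopf.sp k A)
  obtain ⟨e₇⟩ := AffineHopf.nonempty_bc_sp (R := k) L A
  let eU : Grp.mk (AffineHopf.sp L (L ⊗[k] A)) ≅ Grp.mk (Red.bc g U) := (e₅.symm ≪≫ e₆ ≪≫ e₇).symm
  let ET : Red.bc g T ≅ AffineHopf.sp L (MonoidAlgebra L (Multiplicative (Fin r → ℤ))) := (Grp.forget _).mapIso eT
  let EU : AffineHopf.sp L (L ⊗[k] A) ≅ Red.bc g U := (Grp.forget _).mapIso eU
  haveI : IsMonHom ET.inv := eT.inv.hom.isMonHom_hom
  haveI : IsMonHom EU.inv := eU.inv.hom.isMonHom_hom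
  let jL : Red.bc g T ⟶ Red.bc g U := (Over.pullback g).map j
  haveI : IsMonHom ((ET.inv ≫ jL) ≫ EU.inv) := inferInstance
  obtain ⟨ψ, hψ⟩ := AffineHopf.exists_bialgHom ((ET.inv ≫ jL) ≫ EU.inv)
  haveI : Mono jL := inferInstance
  -- the base change of the torus is trivial
  have hm1 : Mono (ET.inv ≫ jL) := ⟨fun a b h => by
    rw [← Category.assoc, ← Category.assoc] at h
    exact (cancel_mono ET.inv).1 ((cancel_mono jL).1 h)⟩
  have hm2 : Mono ((ET.inv ≫ jL) ≫ EU.inv) := ⟨fun a b h => by
    refine hm1.right_cancellation a b ?_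
    have h' := congrArg (· ≫ EU.hom) h
    simpa only [Category.assoc, EU.inv_hom_id, Category.comp_id] using h'⟩
  have hconst : (ψ : L ⊗[k] A →ₐ[L] MonoidAlgebra L (Multiplicative (Fin r → ℤ))) =
      (Algebra.ofId L _).comp (Bialgebra.counitAlgHom L (L ⊗[k] A)) :=
    AlgHom.ext fun a => eq_counit_of_isUnipotent hA ψ a
  let π : AffineHopf.sp L (MonoidAlgebra L (Multiplicative (Fin r → ℤ))) ⟶
      AffineHopf.sp L (MonoidAlgebra L (Multiplicative (Fin r → ℤ))) :=
    AffineHopf.spMap ((Algebra.ofId L _).comp (Bialgebra.counitAlgHom L (MonoidAlgebra L (Multiplicative (Fin r → ℤ)))))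
  have hπ : π = 𝟙 _ := by
    rw [← cancel_mono ((ET.inv ≫ jL) ≫ EU.inv), Category.id_comp, hψ, AffineHopf.spMap_comp, hconst]
    congr 1
    refine AlgHom.ext fun a => ?_
    simp
  rw [← AffineHopf.spMap_id] at hπ
  have hπ' := AffineHopf.spMap_injective hπ
  have htriv : IsIso (AffineHopf.sp L (MonoidAlgebra L (Multiplicative (Fin r → ℤ)))).hom := by
    show IsIso (Spec.map (CommRingCat.ofHom (algebraMap L (MonoidAlgebra L (Multiplicative (Fin r → ℤ))))))
    haveI : IsIso (CommRingCat.ofHom (algebraMap L (MonoidAlgebra L (Multiplicative (Fin r → ℤ))))) :=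
      (ConcreteCategory.isIso_iff_bijective _).mpr ⟨(algebraMap L _).injective, fun x =>
        ⟨Bialgebra.counitAlgHom L _ x, DFunLike.congr_fun hπ' x⟩⟩
    infer_instance
  haveI : IsIso (pullback.snd T.hom g) := by
    haveI := htriv
    haveI : IsIso ET.hom.left := ((Over.forget _).mapIso ET).isIso_hom
    show IsIso (Red.bc g T).hom
    rw [← Over.w ET.hom]
    infer_instance
  obtain ⟨hs, hf⟩ := surjective_flat_field g
  exact MorphismProperty.of_isPullback_of_descendsAlong (P := MorphismProperty.isomorphisms Scheme.{u})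
    (Q := @Surjective ⊓ @Flat ⊓ @QuasiCompact) (IsPullback.of_hasPullback T.hom g).flip
    ⟨⟨hs, hf⟩, inferInstance⟩ (MorphismProperty.isomorphisms.infer_property _)

end Groth.Agent.AGF27.Unip
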