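import Groth.Agent.GrpSchLib.AffineHopf
import Groth.Prelude.Def_Red

/-!
# The spectrum of a Laurent polynomial ring is a torus
-/

set_option linter.style.haveILetI false
set_option backward.isDefEq.respectTransparency false

universe u

open CategoryTheory CategoryTheory.Limits MonoidalCategory CartesianMonoidalCategory MonObj AlgebraicGeometry

namespace Groth.Agent.AGF27.Torus

open GrpSchLib

variable {S : Scheme.{u}}

theorem bc_bc {U U' : Scheme.{u}} (t : U' ⟶ U) (g : U ⟶ S) (H : Over S) [GrpObj H] :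
    Nonempty (Grp.mk (Red.bc t (Red.bc g H)) ≅ Grp.mk (Red.bc (t ≫ g) H)) :=
  ⟨((Functor.mapGrpCompIso).symm ≪≫ Functor.mapGrpNatIso (Over.pullbackComp t g).symm).app (Grp.mk H)⟩

theorem bc_congr {U : Scheme.{u}} {a b : U ⟶ S} (h : a = b) (H : Over S) [GrpObj H] :
    Nonempty (Grp.mk (Red.bc a H) ≅ Grp.mk (Red.bc b H)) := by
  subst h
  exact ⟨Iso.refl _⟩

theorem bc_iso {U : Scheme.{u}} (t : U ⟶ S) {A B : Over S} [GrpObj A] [GrpObj B] (e : Grp.mk A ≅ Grp.mk B) :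
    Nonempty (Grp.mk (Red.bc t A) ≅ Grp.mk (Red.bc t B)) :=
  ⟨(Over.pullback t).mapGrp.mapIso e⟩

theorem bc_DS {U U' : Scheme.{u}} (t : U' ⟶ U) (M : Type) [AddCommGroup M] :
    Nonempty (Grp.mk (Red.bc t (Red.DS U M)) ≅ Grp.mk (Red.DS U' M)) := by
  obtain ⟨e₁⟩ := bc_bc t (Limits.IsTerminal.from specULiftZIsTerminal U) (Red.diag (ULift.{u} ℤ) M)
  obtain ⟨e₂⟩ := bc_congr (specULiftZIsTerminal.hom_ext (t ≫ Limits.IsTerminal.from specULiftZIsTerminal U)
    (Limits.IsTerminal.from specULiftZIsTerminal U')) (Red.diag (ULift.{u} ℤ) M)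
  exact ⟨e₁ ≪≫ e₂⟩

variable (k : Type u) [Field k]

/-- The spectrum of the group algebra of a free lattice is a torus. -/
theorem isTorus_sp_monoidAlgebra (r : ℕ) :
    Red.IsTorus (AffineHopf.sp k (MonoidAlgebra k (Multiplicative (Fin r → ℤ)))) := by
  obtain ⟨e⟩ := AffineHopf.nonempty_DS_iso k (Fin r → ℤ)
  refine ⟨Spec (CommRingCat.of k), 𝟙 _, inferInstance, inferInstance,
    fun V hV => ⟨V, hV.isCompact, by simp⟩, fun _ => ⟨⊤, trivial, r, ?_⟩⟩
  obtain ⟨e₁⟩ := bc_iso ((⊤ : (Spec (CommRingCat.of k)).Opens).ι ≫ 𝟙 _) e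
  obtain ⟨e₂⟩ := bc_DS ((⊤ : (Spec (CommRingCat.of k)).Opens).ι ≫ 𝟙 _) (Fin r → ℤ)
  exact ⟨e₁ ≪≫ e₂⟩

theorem not_isTrivialGrp_sp_monoidAlgebra :
    ¬ Red.IsTrivialGrp (AffineHopf.sp k (MonoidAlgebra k (Multiplicative (Fin 1 → ℤ)))) := by
  intro h
  haveI : IsIso (Scheme.Spec.map (CommRingCat.ofHom (algebraMap k (MonoidAlgebra k (Multiplicative (Fin 1 → ℤ))))).op) := h
  haveI := isIso_of_fully_faithful Scheme.Spec
    (CommRingCat.ofHom (algebraMap k (MonoidAlgebra k (Multiplicative (Fin 1 → ℤ))))).op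
  haveI : IsIso (CommRingCat.ofHom (algebraMap k (MonoidAlgebra k (Multiplicative (Fin 1 → ℤ))))) :=
    isIso_of_op _
  obtain ⟨c, hc⟩ := ((ConcreteCategory.isIso_iff_bijective _).mp ‹IsIso
    (CommRingCat.ofHom (algebraMap k (MonoidAlgebra k (Multiplicative (Fin 1 → ℤ)))))›).2
    (MonoidAlgebra.single (Multiplicative.ofAdd fun _ => 1) 1)
  have h1 := congrArg (fun x : MonoidAlgebra k (Multiplicative (Fin 1 → ℤ)) =>
    x.coeff (Multiplicative.ofAdd fun _ => 1)) hc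
  simp at h1
  rw [Finsupp.single_eq_of_ne (fun he : Multiplicative.ofAdd (fun _ : Fin 1 => (1 : ℤ)) = 1 =>
    one_ne_zero (α := ℤ) (congrFun (congrArg Multiplicative.toAdd he) 0))] at h1
  exact zero_ne_one h1

end Groth.Agent.AGF27.Torus
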