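import Groth.Agent.AGF27.Unip.Main
import Groth.Agent.AGF27.FnHopf
import Groth.Agent.AGF27.InvUFD
import Groth.Agent.ComodLib.Push
import Groth.Agent.AGF27.Unip.Torus
import Groth.Prelude.Def_Red

/-!
# Smooth connected affine groups without subtorus are unipotent (any characteristic)
-/

set_option linter.style.haveILetI false

universe u

open CategoryTheory CategoryTheory.Limits MonoidalCategory CartesianMonoidalCategory MonObj AlgebraicGeometry
open TensorProduct
open Groth.Agent.GrpSchLib Groth.Agent.GrpSchLib.Kunneth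
open scoped Groth.Agent.AGF27

namespace Groth.Agent.AGF27.Unip

/-- Unipotence transfers along an isomorphism of Hopf algebras. -/
theorem isUnipotent_of_bialgEquiv {k : Type u} [Field k] {A B : Type u} [CommRing A] [Bialgebra k A] [CommRing B]
    [Bialgebra k B] (e : A ≃ₐc[k] B) (hU : HopfRep.IsUnipotent k A) : HopfRep.IsUnipotent k B := by
  intro V _ _ c hfin hnt h0
  let cA : HopfRep.Comod k A V := ComodLib.pushComod ((e.symm : B →ₐc[k] A) : B →ₗc[k] A) c
  obtain ⟨v, hv, hv0⟩ := Submodule.exists_mem_ne_zero_of_ne_bot (@hU V _ _ cA hfin hnt)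
  refine hv0 ?_
  have hmem : v ∈ HopfRep.fixedPts k B V := by
    refine (TensorProduct.congr (LinearEquiv.refl k V) e.symm.toAlgEquiv.toLinearEquiv).injective ?_
    rw [TensorProduct.congr_tmul]
    show _ = v ⊗ₜ[k] e.symm.toAlgEquiv (1 : B)
    rw [map_one]
    exact hv
  rwa [h0, Submodule.mem_bot] at hmem

variable {k : Type u} [Field k] [IsAlgClosed k] (U : Over (Spec (CommRingCat.of k))) [GrpObj U] [IsAffine U.left]
  [Smooth U.hom] [ConnectedSpace U.left]

/-- Functions on a smooth connected affine group without subtorus form a unipotent Hopf algebra. -/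
theorem isUnipotent_fn (hU : Red.HasNoSubtorus k U) : HopfRep.IsUnipotent k (Fn U) := by
  haveI : LocallyOfFiniteType U.hom := inferInstance
  haveI := isDomain_fn (G := U)
  obtain ⟨A, _, _, ⟨e⟩⟩ := AffineHopf.exists_hopf U
  obtain ⟨φ, -⟩ := exists_bialgEquiv_fn e
  let E : AffineHopf.sp k A ≅ U := (Grp.forget _).mapIso e
  haveI hE : IsMonHom E.hom := e.hom.hom.isMonHom_hom
  refine isUnipotent_of_no_torus fun ψ hψ => Torus.not_isTrivialGrp_sp_monoidAlgebra k ?_
  let π : A →ₐc[k] MonoidAlgebra k Z1 := ψ.comp (φ.symm : A →ₐc[k] Fn U)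
  have hπ : Function.Surjective π := hψ.comp φ.symm.surjective
  let j := AffineHopf.spMap (π : A →ₐ[k] MonoidAlgebra k Z1) ≫ E.hom
  haveI : Mono (AffineHopf.spMap (π : A →ₐ[k] MonoidAlgebra k Z1)) := by
    haveI : IsClosedImmersion ((Over.forget _).map (AffineHopf.spMap (π : A →ₐ[k] MonoidAlgebra k Z1))) :=
      IsClosedImmersion.spec_of_surjective _ hπ
    exact (Over.forget _).mono_of_mono_map inferInstance
  exact hU _ j (Torus.isTorus_sp_monoidAlgebra k 1)

/-- A smooth connected affine group without subtorus is the spectrum of a unipotent Hopf algebra. -/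
theorem exists_hopf_isUnipotent (hU : Red.HasNoSubtorus k U) :
    ∃ (A : Type u) (_ : CommRing A) (_ : HopfAlgebra k A), Algebra.FiniteType k A ∧ IsDomain A ∧
      HopfRep.IsUnipotent k A ∧ Nonempty (Grp.mk (AffineHopf.sp k A) ≅ Grp.mk U) := by
  haveI : LocallyOfFiniteType U.hom := inferInstance
  haveI := isDomain_fn (G := U)
  obtain ⟨A, _, _, ⟨e⟩⟩ := AffineHopf.exists_hopf U
  obtain ⟨φ, -⟩ := exists_bialgEquiv_fn e
  refine ⟨A, inferInstance, inferInstance, .of_surjective ((φ : Fn U →ₐc[k] A) : Fn U →ₐ[k] A) φ.surjective,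
    φ.symm.toAlgEquiv.injective.isDomain φ.symm.toAlgEquiv.toRingHom, ?_, ⟨e⟩⟩
  exact isUnipotent_of_bialgEquiv φ (isUnipotent_fn U hU)

end Groth.Agent.AGF27.Unip
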