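import Groth.Agent.GITUnip.EigenTorus
import Groth.Agent.ComodLib.Orbits
import Groth.Agent.S5423
import Mathlib.FieldTheory.IsAlgClosed.Basic
import Mathlib.LinearAlgebra.Charpoly.ToMatrix
import Mathlib.FieldTheory.AlgebraicClosure

/-!
# A connected group without subtorus is unipotent, over a field with an element transcendental over the prime field
-/

set_option linter.style.haveILetI false
set_option linter.unusedSectionVars false

universe u

open TensorProduct WithConv Module Polynomial

namespace Groth.Agent.AGF27.Unip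

open ComodLib GITUnip

variable {k : Type u} [Field k] [IsAlgClosed k]

variable (k) in
/-- Elements algebraic over the prime field. -/
noncomputable def algElts : IntermediateField (⊥ : Subfield k) k := algebraicClosure (⊥ : Subfield k) k

theorem mem_algElts_of_pow {x : k} {n : ℕ} (hn : 0 < n) (h : x ^ n ∈ algElts k) : x ∈ algElts k := by
  rw [algElts, mem_algebraicClosure_iff] at h ⊢
  exact (IsAlgebraic.of_pow hn h : IsAlgebraic (⊥ : Subfield k) x)

theorem coeff_prod_mem (s : Multiset k) (hs : ∀ l ∈ s, ∃ n : ℕ, 0 < n ∧ l ^ n = 1) (i : ℕ) :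
    (s.map fun l => X - C l).prod.coeff i ∈ algElts k := by
  have h : (s.map fun l => X - C l).prod ∈ Polynomial.lifts (algebraMap (algElts k) k) := by
    refine multiset_prod_mem _ fun p hp => ?_
    obtain ⟨l, hl, rfl⟩ := Multiset.mem_map.mp hp
    obtain ⟨n, hn, hpow⟩ := hs l hl
    rw [sub_eq_add_neg, ← map_neg C]
    refine add_mem (X_mem_lifts _) (C'_mem_lifts ⟨⟨-l, neg_mem (mem_algElts_of_pow hn ?_)⟩, rfl⟩)
    rw [hpow]
    exact one_mem _
  obtain ⟨c, hc⟩ := (lifts_iff_coeff_lifts _).mp h i
  rw [← hc]
  exact c.2

variable {A : Type u} [CommRing A] [HopfAlgebra k A] [Algebra.FiniteType k A]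

/-- If every eigenvalue of every rational point is a root of unity, the characteristic polynomials are constant. -/
theorem isNilpotent_act_sub_one [IsDomain A] {t : k} (ht : t ∉ algElts k)
    (hA : ∀ φ : A →ₐc[k] MonoidAlgebra k (Multiplicative (Fin 1 → ℤ)), ¬ Function.Surjective φ)
    (g : A →ₐ[k] k) (V : Type u) [AddCommGroup V] [Module k V] [HopfRep.Comod k A V] [Module.Finite k V] :
    IsNilpotent (HopfRep.Comod.act k A V g - LinearMap.id) := by
  classical
  let act : (A →ₐ[k] k) → Module.End k V := fun g => actF (C := A) (V := V) g.toLinearMap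
  have hroot : ∀ (g : A →ₐ[k] k) (μ : k), Module.End.HasEigenvalue (act g) μ → ∃ n : ℕ, 0 < n ∧ μ ^ n = 1 := by
    intro g μ hμ
    obtain ⟨v, hv⟩ := hμ.exists_hasEigenvector
    obtain ⟨hve, hv0⟩ := hv
    rw [Module.End.mem_eigenspace_iff] at hve
    obtain ⟨f, hf⟩ : ∃ f : V →ₗ[k] k, f v = 1 := by
      obtain ⟨π, hπ, -⟩ := Submodule.exists_dual_map_eq_bot_of_notMem
        (p := (⊥ : Submodule k V)) (by simpa using hv0) inferInstance
      exact ⟨(π v)⁻¹ • π, by simp [inv_mul_cancel₀ hπ]⟩
    let a : A := coefFun (C := A) f v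
    have ha1 : Coalgebra.counit (R := k) a = 1 := (counit_coefFun f v).trans hf
    have hTa : trans g a = μ • a := by
      rw [trans_eq_actF]
      rw [← comodHom_actF (isComodHom_coefFun f) g.toLinearMap v,
        show actF (C := A) g.toLinearMap v = μ • v from hve, map_smul]
    have hμ0 : μ ≠ 0 := by
      rintro rfl
      rw [zero_smul] at hTa
      rw [trans_injective g (hTa.trans (map_zero _).symm), map_zero] at ha1
      exact zero_ne_one ha1
    have hmem : (Units.mk0 μ hμ0) ∈ supp g := ⟨a, (mem_eig g).mpr ⟨1, by
      rw [pow_one]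
      show trans g a - μ • a = 0
      rw [hTa, sub_self]⟩, by rw [ha1]; exact one_ne_zero⟩
    by_contra hno
    push Not at hno
    obtain ⟨φ, hφ⟩ := exists_surjective_of_not_torsion g hmem fun n hn he => hno n hn (by
      simpa using congrArg Units.val he)
    exact hA φ hφ
  let b := Module.finBasis k V
  let M : Matrix (Fin (Module.finrank k V)) (Fin (Module.finrank k V)) A :=
    fun i j => coefFun (C := A) (b.coord i) (b j)
  have hM : ∀ g : A →ₐ[k] k, LinearMap.toMatrix b b (act g) = M.map g := by
    intro g
    ext i j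
    rw [LinearMap.toMatrix_apply, Matrix.map_apply]
    show b.coord i (slice g.toLinearMap (HopfRep.Comod.coact (k := k) (A := A) (b j))) =
      g (coefFun (C := A) (b.coord i) (b j))
    rw [coefFun_apply]
    induction HopfRep.Comod.coact (k := k) (A := A) (b j) using TensorProduct.induction_on with
    | zero => simp
    | tmul p q => simp [mul_comm]
    | add p q hp hq => simp only [map_add, hp, hq]
  have hcp : ∀ g : A →ₐ[k] k, (act g).charpoly = M.charpoly.map g.toRingHom := fun g => by
    rw [← LinearMap.charpoly_toMatrix (act g) b, hM, ← Matrix.charpoly_map]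
    rfl
  have hconst : ∀ (i : ℕ) (g h : A →ₐ[k] k), g (M.charpoly.coeff i) = h (M.charpoly.coeff i) := by
    intro i g h
    set a := M.charpoly.coeff i
    by_cases hr : ∃ c : k, algebraMap k A c = a
    · obtain ⟨c, hc⟩ := hr
      rw [← hc, g.commutes, h.commutes]
    exfalso
    have hinj : Function.Injective (aeval a : k[X] →ₐ[k] A) := by
      rw [injective_iff_map_eq_zero]
      by_contra hne
      push Not at hne
      obtain ⟨p, hp, hp0⟩ := hne
      have hsplit : p.Splits := IsAlgClosed.splits p
      rw [hsplit.eq_prod_roots, map_mul, aeval_C, map_multiset_prod, Multiset.map_map, mul_eq_zero] at hp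
      rcases hp with hp | hp
      · exact leadingCoeff_ne_zero.mpr hp0 ((algebraMap k A).injective (hp.trans (map_zero _).symm))
      · rw [Multiset.prod_eq_zero_iff, Multiset.mem_map] at hp
        obtain ⟨c, -, hc⟩ := hp
        refine hr ⟨c, ?_⟩
        rw [Function.comp_apply, map_sub, aeval_X, aeval_C, sub_eq_zero] at hc
        exact hc.symm
    have hfp : (aeval a : k[X] →ₐ[k] A).toRingHom.FinitePresentation :=
      RingHom.FinitePresentation.of_finiteType.mp (RingHom.FiniteType.of_comp_finiteType (f := algebraMap k k[X]) (by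
        rw [AlgHom.toRingHom_eq_coe, AlgHom.comp_algebraMap]
        exact RingHom.finiteType_algebraMap.mpr inferInstance))
    obtain ⟨p, hp, hrange⟩ := exists_basicOpen_subset_range _ hfp hinj
    have hp0 : p ≠ 0 := fun h => hp (h ▸ IsNilpotent.zero)
    have hinjt : Function.Injective fun m : ℕ => t ^ (m + 1) := by
      intro m l hml
      have ht0 : t ≠ 0 := fun h0 => ht (h0 ▸ zero_mem _)
      simp only at hml
      by_contra hne
      rcases Nat.lt_or_gt_of_ne hne with h' | h'
      · refine ht (mem_algElts_of_pow (Nat.sub_pos_of_lt h') ?_)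
        rw [show t ^ (l - m) = 1 by
          apply mul_left_cancel₀ (pow_ne_zero (m + 1) ht0)
          rw [← pow_add, mul_one, show m + 1 + (l - m) = l + 1 by omega, hml]]
        exact one_mem _
      · refine ht (mem_algElts_of_pow (Nat.sub_pos_of_lt h') ?_)
        rw [show t ^ (m - l) = 1 by
          apply mul_left_cancel₀ (pow_ne_zero (l + 1) ht0)
          rw [← pow_add, mul_one, show l + 1 + (m - l) = m + 1 by omega, ← hml]]
        exact one_mem _
    have hfin : {N : ℕ | p.eval (t ^ (N + 1)) = 0}.Finite :=
      ((p.roots.toFinset.finite_toSet).preimage (f := fun N : ℕ => t ^ (N + 1)) hinjt.injOn).subset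
        fun N hN => by simpa [hp0] using hN
    obtain ⟨N, hN⟩ := hfin.infinite_compl.nonempty
    obtain ⟨z, hz⟩ := exists_lift_of_mem_range (k := k) (aeval a : k[X] →ₐ[k] A) (aeval (t ^ (N + 1)))
      (hrange _ fun hmem => hN (by simpa using RingHom.mem_ker.mp hmem))
    have hza : z a = t ^ (N + 1) := by simpa using DFunLike.congr_fun hz X
    refine ht (mem_algElts_of_pow (Nat.succ_pos N) ?_)
    rw [← hza]
    have he : z a = (act z).charpoly.coeff i := by rw [hcp, coeff_map]; rfl
    rw [he]
    have hsplit : (act z).charpoly.Splits := IsAlgClosed.splits _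
    rw [hsplit.eq_prod_roots_of_monic (LinearMap.charpoly_monic _)]
    refine coeff_prod_mem _ (fun l hl => hroot z l ?_) i
    rw [Module.End.hasEigenvalue_iff_isRoot_charpoly]
    exact (mem_roots'.mp hl).2
  have hone : (act g).charpoly = (X - 1) ^ Module.finrank k V := by
    have h1 : act (Bialgebra.counitAlgHom k A) = 1 := LinearMap.ext fun v => actF_counit v
    have h2 : (1 : Module.End k V).charpoly = (X - 1) ^ Module.finrank k V := by
      rw [← LinearMap.charpoly_toMatrix _ b, LinearMap.toMatrix_one, Matrix.charpoly_one, Fintype.card_fin]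
    rw [← h2, ← h1, hcp, hcp]
    ext i
    rw [coeff_map, coeff_map]
    exact hconst i _ _
  have h3 := (act g).aeval_self_charpoly
  rw [hone, map_pow, map_sub, aeval_X, map_one] at h3
  exact ⟨Module.finrank k V, h3⟩

/-- A connected reduced affine group without subtorus is unipotent. -/
theorem isUnipotent_of_no_torus_of_notMem [IsDomain A] {t : k} (ht : t ∉ algElts k)
    (hA : ∀ φ : A →ₐc[k] MonoidAlgebra k (Multiplicative (Fin 1 → ℤ)), ¬ Function.Surjective φ) :
    HopfRep.IsUnipotent k A :=
  (S5423.result k A).mpr fun g V _ _ _ hV => by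
    haveI := hV
    exact isNilpotent_act_sub_one ht hA g V

end Groth.Agent.AGF27.Unip
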