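import Mathlib.RingTheory.Bialgebra.MonoidAlgebra
import Mathlib.RingTheory.HopfAlgebra.MonoidAlgebra
import Mathlib.RingTheory.HopfAlgebra.Convolution
import Mathlib.LinearAlgebra.TensorProduct.Basis
import Mathlib.GroupTheory.Archimedean
import Groth.Agent.ComodLib.Orbits
import Groth.Agent.ComodLib.PrimCriteria

/-!
# A cocharacter defined over a larger field gives one over the algebraically closed ground field
-/

set_option linter.unusedSectionVars false

universe u

open TensorProduct WithConv MonoidAlgebra

namespace Groth.Agent.AGF27.Unip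

open Groth.Agent.ComodLib

/-- The infinite cyclic group. -/
abbrev Z1 := Multiplicative (Fin 1 → ℤ)

section Coeff

variable (k : Type u) [CommRing k]

/-- A coefficient. -/
noncomputable def cf (m : Z1) : MonoidAlgebra k Z1 →ₗ[k] k :=
  Finsupp.lapply m ∘ₗ (coeffLinearEquiv k).toLinearMap

theorem cf_single (m n : Z1) (r : k) [Decidable (n = m)] : cf k m (single n r) = if n = m then r else 0 := by
  classical
  show (single n r).coeff m = _
  rw [coeff_single, Finsupp.single_apply]

/-- A pair of coefficients. -/
noncomputable def cf₂ (m l : Z1) : MonoidAlgebra k Z1 ⊗[k] MonoidAlgebra k Z1 →ₗ[k] k :=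
  LinearMap.mul' k k ∘ₗ TensorProduct.map (cf k m) (cf k l)

theorem cf₂_comul (m l : Z1) [Decidable (m = l)] (y : MonoidAlgebra k Z1) :
    cf₂ k m l (Coalgebra.comul (R := k) y) = if m = l then cf k m y else 0 := by
  classical
  induction y using MonoidAlgebra.induction_linear with
  | zero => simp
  | add p q hp hq => simp only [map_add, hp, hq]; split_ifs <;> simp
  | single n r =>
    simp only [comul_single, CommSemiring.comul_apply, TensorProduct.map_tmul, cf₂, LinearMap.comp_apply,
      LinearMap.mul'_apply]
    show cf k m (single n 1) * cf k l (single n r) = _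
    simp only [cf_single]
    by_cases h : n = m <;> by_cases h' : m = l <;> simp_all

theorem ext_cf₂ {z z' : MonoidAlgebra k Z1 ⊗[k] MonoidAlgebra k Z1} (h : ∀ m l, cf₂ k m l z = cf₂ k m l z') :
    z = z' := by
  refine ((MonoidAlgebra.basis Z1 k).tensorProduct (MonoidAlgebra.basis Z1 k)).repr.injective (Finsupp.ext fun p => ?_)
  obtain ⟨m, l⟩ := p
  have e : ∀ z, ((MonoidAlgebra.basis Z1 k).tensorProduct (MonoidAlgebra.basis Z1 k)).repr z (m, l) = cf₂ k m l z := by
    intro z
    induction z using TensorProduct.induction_on with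
    | zero => simp
    | add p q hp hq => simp only [map_add, Finsupp.add_apply, hp, hq]
    | tmul x y =>
      rw [Module.Basis.tensorProduct_repr_tmul_apply]
      simp [cf₂, cf, MonoidAlgebra.basis, mul_comm]
  rw [e, e, h]

end Coeff

variable {k : Type u} [Field k] [IsAlgClosed k] {A : Type u} [CommRing A] [HopfAlgebra k A] [Algebra.FiniteType k A]
variable {K : Type u} [Field K] [Algebra k K]

/-- A non-trivial cocharacter gives a closed one-dimensional split torus. -/
theorem exists_surjective_of_comp_comul (φ : A →ₐ[k] MonoidAlgebra k Z1)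
    (hcomul : ∀ a, Coalgebra.comul (R := k) (φ a) = TensorProduct.map φ.toLinearMap φ.toLinearMap (Coalgebra.comul (R := k) a))
    {a : A} {m : Z1} (hm : m ≠ 1) (ha : cf k m (φ a) ≠ 0) :
    ∃ ψ : A →ₐc[k] MonoidAlgebra k Z1, Function.Surjective ψ := by
  classical
  have hcounit : (Bialgebra.counitAlgHom k (MonoidAlgebra k Z1)).comp φ = Bialgebra.counitAlgHom k A := by
    let e : WithConv (A →ₐ[k] k) := toConv ((Bialgebra.counitAlgHom k (MonoidAlgebra k Z1)).comp φ)
    have he : e * e = e := by
      refine WithConv.ofConv_injective (AlgHom.ext fun x => ?_)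
      rw [AlgHom.convMul_apply]
      have key : ∀ z : A ⊗[k] A, Algebra.TensorProduct.lift e.ofConv e.ofConv (fun _ _ => Commute.all _ _) z =
          Coalgebra.counit (R := k) (TensorProduct.lid k (MonoidAlgebra k Z1)
            ((Coalgebra.counit (R := k)).rTensor (MonoidAlgebra k Z1) (TensorProduct.map φ.toLinearMap φ.toLinearMap z))) := by
        intro z
        induction z using TensorProduct.induction_on with
        | zero => simp
        | add p q hp hq => simp only [map_add, hp, hq]
        | tmul p q => simp [e]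
      rw [key, ← hcomul, Coalgebra.rTensor_counit_comul]
      simp [e]
    have h1 : e = 1 := mul_eq_left.mp he
    exact congrArg WithConv.ofConv h1
  let Φ : A →ₐc[k] MonoidAlgebra k Z1 := BialgHom.ofAlgHom φ hcounit (AlgHom.ext fun x => (hcomul x).symm)
  -- the exponents
  have hline : ∀ b n, single n (cf k n (φ b)) ∈ φ.range := by
    intro b n
    have key : ∀ y : MonoidAlgebra k Z1, TensorProduct.lid k _ ((cf k n).rTensor _ (Coalgebra.comul (R := k) y)) =
        single n (cf k n y) := by
      intro y
      induction y using MonoidAlgebra.induction_linear with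
      | zero => simp
      | add p q hp hq => simp only [map_add, hp, hq, single_add]
      | single l r =>
        simp only [comul_single, CommSemiring.comul_apply, TensorProduct.map_tmul, LinearMap.rTensor_tmul,
          TensorProduct.lid_tmul]
        show cf k n (single l 1) • single l r = _
        rw [cf_single, cf_single, smul_single, smul_eq_mul]
        split_ifs with h
        · subst h; rw [one_mul]
        · rw [single_zero]; simp
    rw [← key, hcomul]
    induction Coalgebra.comul (R := k) b using TensorProduct.induction_on with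
    | zero => simp
    | add p q hp hq => simp only [map_add]; exact add_mem hp hq
    | tmul p q =>
      simp only [TensorProduct.map_tmul, LinearMap.rTensor_tmul, TensorProduct.lid_tmul, AlgHom.toLinearMap_apply]
      exact Subalgebra.smul_mem _ (φ.mem_range_self q) _
  have hanti : ∀ y ∈ φ.range, HopfAlgebra.antipode k y ∈ φ.range := by
    rintro _ ⟨b, rfl⟩
    refine ⟨HopfAlgebra.antipode k b, ?_⟩
    have h1 : toConv (φ.comp (HopfAlgebra.antipodeAlgHom k A)) = toConv ((HopfAlgebra.antipodeAlgHom k _).comp φ) := by
      refine left_inv_eq_right_inv (a := toConv φ) (inv_mul_cancel (toConv φ)) ?_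
      refine WithConv.ofConv_injective (AlgHom.ext fun x => ?_)
      rw [AlgHom.convMul_apply]
      have key : ∀ z : A ⊗[k] A, Algebra.TensorProduct.lift φ
          ((HopfAlgebra.antipodeAlgHom k _).comp φ) (fun _ _ => Commute.all _ _) z = LinearMap.mul' k (MonoidAlgebra k Z1)
            ((HopfAlgebra.antipode k).lTensor _ (TensorProduct.map φ.toLinearMap φ.toLinearMap z)) := by
        intro z
        induction z using TensorProduct.induction_on with
        | zero => simp
        | add p q hp hq => simp only [map_add, hp, hq]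
        | tmul p q => simp
      simp only [ofConv_toConv]
      rw [key, ← hcomul, HopfAlgebra.mul_antipode_lTensor_comul_apply,
        show Coalgebra.counit (R := k) (φ x) = Coalgebra.counit (R := k) x from DFunLike.congr_fun hcounit x]
      simp [AlgHom.convOne_def]
    exact DFunLike.congr_fun (congrArg WithConv.ofConv h1) b
  let H : Subgroup Z1 :=
    { carrier := {n | single n (1 : k) ∈ φ.range}
      one_mem' := one_mem φ.range
      mul_mem' := fun {p q} hp hq => by
        show single (p * q) (1 : k) ∈ φ.range
        have h : single p (1 : k) * single q 1 ∈ φ.range := mul_mem hp hq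
        rwa [single_mul_single, one_mul] at h
      inv_mem' := fun {p} hp => by simpa using hanti _ hp }
  have hsupp : ∀ b n, cf k n (φ b) ≠ 0 → n ∈ H := fun b n hn => by
    have h := Subalgebra.smul_mem _ (hline b n) (cf k n (φ b))⁻¹
    rwa [smul_single, smul_eq_mul, inv_mul_cancel₀ hn] at h
  obtain ⟨d, hd⟩ := Int.subgroup_cyclic
    ((Subgroup.toAddSubgroup' H).map ((Pi.evalAddMonoidHom (fun _ : Fin 1 => ℤ) 0)))
  let v : Z1 := Multiplicative.ofAdd fun _ => d
  have hev : ∀ n : Z1, ∀ j : Fin 1, Multiplicative.toAdd n j = Multiplicative.toAdd n 0 := fun n j => by rw [Fin.eq_zero j]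
  have hvH : v ∈ H := by
    obtain ⟨x, hx, hxd⟩ : d ∈ (Subgroup.toAddSubgroup' H).map (Pi.evalAddMonoidHom (fun _ : Fin 1 => ℤ) 0) := by
      rw [hd]; exact AddSubgroup.subset_closure rfl
    rw [show v = Multiplicative.ofAdd x from congrArg Multiplicative.ofAdd (funext fun j => by
      rw [Fin.eq_zero j]; exact hxd.symm)]
    exact hx
  let c : Z1 →* Z1 :=
    { toFun := fun n => Multiplicative.ofAdd fun _ => d * Multiplicative.toAdd n 0
      map_one' := congrArg Multiplicative.ofAdd (funext fun _ => by simp)
      map_mul' := fun p q => congrArg Multiplicative.ofAdd (funext fun _ => mul_add d _ _) }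
  have hHc : ∀ n ∈ H, ∃ l, c l = n := by
    intro n hn
    have h : Multiplicative.toAdd n 0 ∈ (Subgroup.toAddSubgroup' H).map (Pi.evalAddMonoidHom (fun _ : Fin 1 => ℤ) 0) :=
      ⟨Multiplicative.toAdd n, hn, rfl⟩
    rw [hd, AddSubgroup.mem_closure_singleton] at h
    obtain ⟨z, hz⟩ := h
    refine ⟨Multiplicative.ofAdd fun _ => z, ?_⟩
    refine congrArg Multiplicative.ofAdd (funext fun j => ?_)
    show d * z = Multiplicative.toAdd n j
    rw [hev n j, ← hz, smul_eq_mul, mul_comm]
  have hcH : ∀ l, c l ∈ H := fun l => by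
    rw [show c l = v ^ (Multiplicative.toAdd l 0) from congrArg Multiplicative.ofAdd (funext fun _ => by
      show _ = Multiplicative.toAdd l 0 * d; exact mul_comm _ _)]
    exact zpow_mem hvH _
  have hd0 : d ≠ 0 := fun h0 => by
    obtain ⟨l, hl⟩ := hHc m (hsupp a m ha)
    refine hm (hl.symm.trans (congrArg Multiplicative.ofAdd (funext fun _ => ?_)))
    simp [h0]
  have hc : Function.Injective c := fun p q hpq => congrArg Multiplicative.ofAdd (funext fun j => by
    have h := congrFun (congrArg Multiplicative.toAdd hpq) j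
    simp only [c, MonoidHom.coe_mk, OneHom.coe_mk, toAdd_ofAdd] at h
    show Multiplicative.toAdd p j = Multiplicative.toAdd q j
    rw [hev p j, hev q j, mul_left_cancel₀ hd0 h])
  let incl : MonoidAlgebra k Z1 →ₐc[k] MonoidAlgebra k Z1 := mapDomainBialgHom k c
  have hincl_single : ∀ l r, incl (single l r) = single (c l) r := fun l r => by simp [incl]
  have hinj : Function.Injective incl := MonoidAlgebra.mapDomain_injective hc
  have hrange : φ.range = (incl : MonoidAlgebra k Z1 →ₐ[k] MonoidAlgebra k Z1).range := by
    refine le_antisymm ?_ ?_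
    · rintro _ ⟨b, rfl⟩
      show φ b ∈ _
      rw [show φ b = ∑ n ∈ (φ b).coeff.support, single n (cf k n (φ b)) from
        (MonoidAlgebra.sum_coeff_single (φ b)).symm]
      refine sum_mem fun n hn => ?_
      obtain ⟨l, hl⟩ := hHc n (hsupp b n (by simpa [cf] using hn))
      exact ⟨single l (cf k n (φ b)), (hincl_single l _).trans (by rw [hl])⟩
    · rintro _ ⟨y, rfl⟩
      show incl y ∈ φ.range
      induction y using MonoidAlgebra.induction_linear with
      | zero => simp
      | add p q hp hq => rw [map_add]; exact add_mem hp hq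
      | single l r =>
        rw [hincl_single, show single (c l) r = r • single (c l) (1 : k) by rw [smul_single, smul_eq_mul, mul_one]]
        exact Subalgebra.smul_mem _ (hcH l) r
  let ψ : A →ₐ[k] MonoidAlgebra k Z1 :=
    (AlgEquiv.ofInjective (incl : MonoidAlgebra k Z1 →ₐ[k] MonoidAlgebra k Z1) hinj).symm.toAlgHom.comp
      (φ.codRestrict _ fun b => hrange.le ⟨b, rfl⟩)
  have hψ : ∀ b, incl (ψ b) = φ b := fun b => by
    have := (AlgEquiv.ofInjective (incl : MonoidAlgebra k Z1 →ₐ[k] MonoidAlgebra k Z1) hinj).apply_symm_apply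
      (φ.codRestrict _ (fun b => hrange.le ⟨b, rfl⟩) b)
    exact congrArg Subtype.val this
  refine ⟨BialgHom.ofAlgHom ψ (AlgHom.ext fun b => ?_) (AlgHom.ext fun b => ?_), fun y => ?_⟩
  · show Coalgebra.counit (R := k) (ψ b) = Coalgebra.counit (R := k) b
    rw [← CoalgHomClass.counit_comp_apply incl, hψ]
    exact DFunLike.congr_fun hcounit b
  · show TensorProduct.map ψ.toLinearMap ψ.toLinearMap (Coalgebra.comul (R := k) b) = Coalgebra.comul (R := k) (ψ b)
    have hii : Function.Injective (TensorProduct.map incl.toLinearMap incl.toLinearMap) := by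
      rw [← LinearMap.rTensor_comp_lTensor, LinearMap.coe_comp]
      exact (Module.Flat.rTensor_preserves_injective_linearMap (M := MonoidAlgebra k Z1) _ hinj).comp
        (Module.Flat.lTensor_preserves_injective_linearMap (M := MonoidAlgebra k Z1) _ hinj)
    apply hii
    rw [show TensorProduct.map incl.toLinearMap incl.toLinearMap (Coalgebra.comul (R := k) (ψ b)) =
      Coalgebra.comul (R := k) (incl (ψ b)) from CoalgHomClass.map_comp_comul_apply incl _, hψ, hcomul,
      TensorProduct.map_map]
    congr 2 <;> exact LinearMap.ext hψ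
  · obtain ⟨b, hb⟩ := hrange.ge ⟨y, rfl⟩
    exact ⟨b, hinj ((hψ b).trans hb)⟩

/-- A closed split torus over an extension field gives one over the ground field. -/
theorem exists_surjective_of_baseChange (φ : K ⊗[k] A →ₐc[K] MonoidAlgebra K Z1) (hφ : Function.Surjective φ) :
    ∃ ψ : A →ₐc[k] MonoidAlgebra k Z1, Function.Surjective ψ := by
  classical
  obtain ⟨gens, hgens⟩ := (Algebra.FiniteType.out : (⊤ : Subalgebra k A).FG)
  let ψK : A →ₐ[k] MonoidAlgebra K Z1 :=
    ((φ : K ⊗[k] A →ₐ[K] MonoidAlgebra K Z1).restrictScalars k).comp Algebra.TensorProduct.includeRight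
  have hψK : ∀ a, ψK a = φ ((1 : K) ⊗ₜ[k] a) := fun _ => rfl
  -- a generator which is not sent to a scalar
  obtain ⟨a₀, ha₀, m, hm, hc₀⟩ : ∃ a₀ ∈ gens, ∃ m : Z1, m ≠ 1 ∧ cf K m (ψK a₀) ≠ 0 := by
    by_contra hcon
    simp only [not_exists, not_and, not_not] at hcon
    have hscal : ∀ a, ψK a ∈ (⊥ : Subalgebra K (MonoidAlgebra K Z1)) := by
      intro a
      have ha : a ∈ Algebra.adjoin k (↑gens : Set A) := by rw [hgens]; trivial
      induction ha using Algebra.adjoin_induction with
      | mem x hx =>
        refine Algebra.mem_bot.mpr ⟨cf K 1 (ψK x), MonoidAlgebra.coeff_injective (Finsupp.ext fun n => ?_)⟩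
        rw [MonoidAlgebra.coe_algebraMap, Function.comp_apply, coeff_single, Algebra.algebraMap_self_apply]
        rcases eq_or_ne n 1 with rfl | hn
        · simp [cf]
        · rw [Finsupp.single_apply, if_neg hn.symm]
          exact (hcon x hx n hn).symm
      | algebraMap r =>
        rw [AlgHom.commutes, IsScalarTower.algebraMap_apply k K]
        exact Subalgebra.algebraMap_mem _ _
      | add x y _ _ hx hy => rw [map_add]; exact add_mem hx hy
      | mul x y _ _ hx hy => rw [map_mul]; exact mul_mem hx hy
    obtain ⟨y, hy⟩ := hφ (single (Multiplicative.ofAdd fun _ => (1 : ℤ)) 1)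
    have hall : φ y ∈ (⊥ : Subalgebra K (MonoidAlgebra K Z1)) := by
      clear hy
      induction y using TensorProduct.induction_on with
      | zero => simp
      | add p q hp hq => rw [map_add]; exact add_mem hp hq
      | tmul r x =>
        rw [show r ⊗ₜ[k] x = r • ((1 : K) ⊗ₜ[k] x) by rw [TensorProduct.smul_tmul', smul_eq_mul, mul_one], map_smul]
        exact Subalgebra.smul_mem _ (hscal x) r
    obtain ⟨r, hr⟩ := Algebra.mem_bot.mp (hy ▸ hall)
    have h1 := congrArg (cf K (Multiplicative.ofAdd fun _ => (1 : ℤ))) hr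
    rw [MonoidAlgebra.coe_algebraMap, Function.comp_apply, cf_single, cf_single] at h1
    simp only [if_true] at h1
    rw [if_neg (fun h => by simpa using congrFun (congrArg Multiplicative.toAdd h) 0)] at h1
    exact zero_ne_one h1
  -- the ring of coefficients
  let R : Subalgebra k K := Algebra.adjoin k ↑(gens.biUnion fun a => (ψK a).coeff.support.image fun n => (ψK a).coeff n)
  haveI : Algebra.FiniteType k R := (Subalgebra.fg_iff_finiteType _).mp ⟨_, rfl⟩
  let iR : MonoidAlgebra R Z1 →ₐ[k] MonoidAlgebra K Z1 := MonoidAlgebra.mapAlgHom Z1 R.val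
  have hiR : Function.Injective iR := by
    intro x y h
    refine MonoidAlgebra.coeff_injective (Finsupp.ext fun n => Subtype.ext ?_)
    simpa [iR] using congrArg (fun z => z.coeff n) h
  have hmem : ∀ a, ψK a ∈ iR.range := by
    intro a
    have ha : a ∈ Algebra.adjoin k (↑gens : Set A) := by rw [hgens]; trivial
    induction ha using Algebra.adjoin_induction with
    | mem x hx =>
      rw [← MonoidAlgebra.sum_coeff_single (ψK x)]
      refine sum_mem fun n hn => ?_
      exact ⟨single n ⟨(ψK x).coeff n, Algebra.subset_adjoin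
        (Finset.mem_biUnion.mpr ⟨x, hx, Finset.mem_image_of_mem _ hn⟩)⟩, by simp [iR]⟩
    | algebraMap r => rw [AlgHom.commutes]; exact Subalgebra.algebraMap_mem _ _
    | add x y _ _ hx hy => rw [map_add]; exact add_mem hx hy
    | mul x y _ _ hx hy => rw [map_mul]; exact mul_mem hx hy
  let ψR : A →ₐ[k] MonoidAlgebra R Z1 :=
    (AlgEquiv.ofInjective iR hiR).symm.toAlgHom.comp (ψK.codRestrict _ hmem)
  have hψR : ∀ a n, ((ψR a).coeff n : K) = (ψK a).coeff n := by
    intro a n
    have h := congrArg Subtype.val ((AlgEquiv.ofInjective iR hiR).apply_symm_apply (ψK.codRestrict _ hmem a))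
    have h2 : (iR (ψR a)).coeff n = (ψK a).coeff n := congrArg (fun z => z.coeff n) h
    rw [← h2]
    show ((ψR a).coeff n : K) = ((ψR a).coeff.mapRange (R.val : R → K) (map_zero _)) n
    rw [Finsupp.mapRange_apply]
    rfl
  obtain ⟨ρ, hρ⟩ := exists_point_ne_zero (k := k) (a := (ψR a₀).coeff m) (fun hn => hc₀ (by
    show (ψK a₀).coeff m = 0
    rw [← hψR, hn.eq_zero]; rfl))
  let φ₀ : A →ₐ[k] MonoidAlgebra k Z1 := (MonoidAlgebra.mapAlgHom Z1 ρ).comp ψR
  have hφ₀ : ∀ a n, cf k n (φ₀ a) = ρ ((ψR a).coeff n) := fun a n => by simp [φ₀, cf]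
  refine exists_surjective_of_comp_comul φ₀ (fun a => ext_cf₂ k fun p q => ?_) (a := a₀) hm (by rw [hφ₀]; exact hρ)
  -- compatibility with the comultiplications
  let C : Z1 → A →ₗ[k] R := fun n =>
    { toFun := fun a => (ψR a).coeff n
      map_add' := fun x y => by simp
      map_smul' := fun r x => by simp }
  let F : A ⊗[k] A →ₗ[k] R := LinearMap.mul' k R ∘ₗ TensorProduct.map (C p) (C q)
  have hF : ∀ z, (F z : K) = cf₂ K p q (TensorProduct.map φ.toLinearMap φ.toLinearMap
      (AlgebraTensorModule.distribBaseChange k K A A ((1 : K) ⊗ₜ[k] z))) := by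
    intro z
    induction z using TensorProduct.induction_on with
    | zero => simp
    | add x y hx hy => simp only [TensorProduct.tmul_add, map_add, Subalgebra.coe_add, hx, hy]
    | tmul x y =>
      simp only [F, C, cf₂, LinearMap.comp_apply, TensorProduct.map_tmul, LinearMap.mul'_apply, LinearMap.coe_mk,
        AddHom.coe_mk, Subalgebra.coe_mul, hψR, AlgebraTensorModule.distribBaseChange_tmul]
      rfl
  have hρF : ∀ z, ρ (F z) = cf₂ k p q (TensorProduct.map φ₀.toLinearMap φ₀.toLinearMap z) := by
    intro z
    induction z using TensorProduct.induction_on with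
    | zero => simp
    | add x y hx hy => simp only [map_add, hx, hy]
    | tmul x y => simp [F, C, cf₂, hφ₀]
  have hK : (F (Coalgebra.comul (R := k) a) : K) = if p = q then ((C p a : R) : K) else 0 := by
    rw [hF, ← PrimDiag.comul_one_tmul,
      show TensorProduct.map φ.toLinearMap φ.toLinearMap (Coalgebra.comul (R := K) ((1 : K) ⊗ₜ[k] a)) =
        Coalgebra.comul (R := K) (φ ((1 : K) ⊗ₜ[k] a)) from CoalgHomClass.map_comp_comul_apply φ _,
      cf₂_comul]
    refine if_congr Iff.rfl ?_ rfl
    exact (hψR a p).symm
  have hR : F (Coalgebra.comul (R := k) a) = if p = q then C p a else 0 := Subtype.ext (by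
    rw [hK]; split_ifs <;> simp)
  rw [cf₂_comul, ← hρF, hR]
  split_ifs with h
  · exact hφ₀ a p
  · rw [map_zero]

end Groth.Agent.AGF27.Unip
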