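import Groth.Agent.AGF27.Unip.BigField
import Groth.Agent.AGF27.Unip.Descent
import Groth.Agent.GrpSchLib.TensorDomain
import Groth.Agent.AGFHopf.BC
import Mathlib.FieldTheory.RatFunc.AsPolynomial
import Mathlib.FieldTheory.IsAlgClosed.AlgebraicClosure

/-!
# A connected reduced affine group without subtorus is unipotent (any characteristic)
-/

universe u

open TensorProduct

namespace Groth.Agent.AGF27.Unip

variable (k : Type u) [Field k] [IsAlgClosed k]

/-- An algebraically closed extension with an element transcendental over `k`. -/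
abbrev Big : Type u := AlgebraicClosure (RatFunc k)

/-- The transcendental element. -/
noncomputable def bigT : Big k := algebraMap (RatFunc k) (Big k) RatFunc.X

theorem transcendental_bigT : Transcendental k (bigT k) :=
  (transcendental_algebraMap_iff (algebraMap (RatFunc k) (Big k)).injective).mpr RatFunc.transcendental_X

theorem bigT_notMem_algElts : bigT k ∉ algElts (Big k) := by
  intro h
  rw [algElts, mem_algebraicClosure_iff] at h
  obtain ⟨p, hp, hpe⟩ := h
  obtain ⟨q, hq⟩ : p.map (⊥ : Subfield (Big k)).subtype ∈ Polynomial.lifts (algebraMap k (Big k)) := by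
    rw [Polynomial.lifts_iff_coeff_lifts]
    intro n
    rw [Polynomial.coeff_map]
    exact RingHom.mem_fieldRange.mp ((bot_le : (⊥ : Subfield (Big k)) ≤ (algebraMap k (Big k)).fieldRange)
      (p.coeff n).2)
  rw [Polynomial.coe_mapRingHom] at hq
  have hq0 : q ≠ 0 := fun h => Polynomial.map_ne_zero_iff (Subtype.val_injective) |>.mpr hp (by rw [← hq, h, Polynomial.map_zero])
  refine transcendental_bigT k ⟨q, hq0, ?_⟩
  rw [Polynomial.aeval_def, ← Polynomial.eval_map, hq, Polynomial.eval_map]
  exact hpe

variable {k} {A : Type u} [CommRing A] [HopfAlgebra k A] [Algebra.FiniteType k A] [IsDomain A]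

/-- A connected reduced affine group without closed one-dimensional split torus is unipotent. -/
theorem isUnipotent_of_no_torus
    (hA : ∀ φ : A →ₐc[k] MonoidAlgebra k Z1, ¬ Function.Surjective φ) : HopfRep.IsUnipotent k A := by
  haveI : IsDomain (Big k ⊗[k] A) := GrpSchLib.isDomain_tensor_of_isAlgClosed
  refine AGFHopf.isUnipotent_of_baseChange (k' := Big k) (isUnipotent_of_no_torus_of_notMem
    (bigT_notMem_algElts k) fun φ hφ => ?_)
  obtain ⟨ψ, hψ⟩ := exists_surjective_of_baseChange φ hφ
  exact hA ψ hψ

end Groth.Agent.AGF27.Unip
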